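import Groth.Agent.AlgEqLib.Graph
import Groth.Agent.CompleteCurve.ProjSpace

/-!
# Algebraic equivalence of points along a connected chain of curves
-/

set_option autoImplicit false
set_option backward.isDefEq.respectTransparency false
set_option linter.style.haveILetI false
set_option maxHeartbeats 1000000

universe u

open CategoryTheory CategoryTheory.Limits AlgebraicGeometry IsLocalRing

noncomputable section

namespace Groth.Agent.AlgEqLib

variable {k : Type u} [Field k]

theorem isProper_of_projective {C : Scheme.{u}} {q : C ⟶ Spec (CommRingCat.of k)}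
    (hp : Neron.IsProjectiveOver k (Over.mk q)) : IsProper q := by
  obtain ⟨n, i, hi', hiY⟩ := hp
  haveI := hi'
  haveI : IsProper (CohB1.ProjSpaceOver.toBase n (Spec (CommRingCat.of k))) :=
    inferInstanceAs (IsProper (pullback.snd (CohB1.ProjSpace.toSpec n (ULift.{u} ℤ)) (specULiftZIsTerminal.from _)))
  exact (show i ≫ CohB1.ProjSpaceOver.toBase n _ = q from hiY) ▸ inferInstance

variable {X : Scheme.{u}} (p : X ⟶ Spec (CommRingCat.of k))

/-- A rational point on the image of a closed immersion lifts. -/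
theorem exists_lift_point {C : Scheme.{u}} (j : C ⟶ X) [IsClosedImmersion j] (q : C ⟶ Spec (CommRingCat.of k))
    (hq : j ≫ p = q) (P : Spec (CommRingCat.of k) ⟶ X) (hP : P ≫ p = 𝟙 _)
    (hPj : P (closedPoint k) ∈ Set.range j) :
    ∃ t : Spec (CommRingCat.of k) ⟶ C, t ≫ q = 𝟙 _ ∧ t ≫ j = P := by
  obtain ⟨c, hc⟩ := hPj
  haveI : Surjective (pullback.fst P j) := ⟨fun z => by
    obtain ⟨w, hw, -⟩ := Scheme.Pullback.exists_preimage_pullback (f := P) (g := j) z c (by
      rw [hc]; exact congrArg P (Subsingleton.elim (α := PrimeSpectrum k) _ _))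
    exact ⟨w, hw⟩⟩
  haveI : IsIso (pullback.fst P j) := isIso_of_isClosedImmersion_of_surjective _
  have hj : (inv (pullback.fst P j) ≫ pullback.snd P j) ≫ j = P := by
    rw [Category.assoc, ← pullback.condition, IsIso.inv_hom_id_assoc]
  exact ⟨_, by rw [← hq, ← Category.assoc, hj, hP], hj⟩

/-- Two points of a projective curve inside `X` are algebraically equivalent. -/
theorem isAlgEquiv_of_closedImmersion [DecidableEq X] {C : Scheme.{u}} (j : C ⟶ X) [IsClosedImmersion j]
    (q : C ⟶ Spec (CommRingCat.of k)) (hq : j ≫ p = q) (hs : Smooth q)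
    (hp : Neron.IsProjectiveOver k (Over.mk q)) (hi : IsIntegral C) (hd : topologicalKrullDim C = 1)
    (t₁ t₂ : Spec (CommRingCat.of k) ⟶ C) (h₁ : t₁ ≫ q = 𝟙 _) (h₂ : t₂ ≫ q = 𝟙 _) :
    AlgEqCyc.IsAlgEquiv p (Function.locallyFinsuppWithin.single (j (t₁ (closedPoint k))) (1 : ℤ))
      (Function.locallyFinsuppWithin.single (j (t₂ (closedPoint k))) (1 : ℤ)) := by
  haveI := isProper_of_projective hp
  haveI := hi
  refine AddSubgroup.subset_closure (isElemAlgTriv_of_curve p q j hq hs hp hd ?_ t₁ t₂ h₁ h₂)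
  haveI : IsClosedImmersion (pullback.map q q p q j (𝟙 C) (𝟙 _) (by rw [Category.comp_id, hq])
      (by rw [Category.comp_id, Category.id_comp])) :=
    MorphismProperty.pullback_map (P := @IsClosedImmersion) (f := q) (g := q) (f' := p) (g' := q) (i₁ := j) (i₂ := 𝟙 C)
      inferInstance inferInstance hq.symm (Category.id_comp q).symm
  have e : pullback.lift j (𝟙 C) (by rw [hq, Category.id_comp]) = pullback.diagonal q ≫
      pullback.map q q p q j (𝟙 C) (𝟙 _) (by rw [Category.comp_id, hq]) (by rw [Category.comp_id, Category.id_comp]) := by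
    apply pullback.hom_ext <;> simp
  rw [e]
  infer_instance

/-- Two rational points on a connected union of projective curves are algebraically equivalent. -/
theorem isAlgEquiv_chain [IsAlgClosed k] [DecidableEq X] (n : ℕ)
    (C : Fin n → Scheme.{u}) (q : (i : Fin n) → (C i ⟶ Spec (CommRingCat.of k)))
    (j : (i : Fin n) → (C i ⟶ X)) (hj : ∀ i, IsClosedImmersion (j i)) (hq : ∀ i, j i ≫ p = q i)
    (hs : ∀ i, Smooth (q i)) (hpr : ∀ i, Neron.IsProjectiveOver k (Over.mk (q i)))
    (hint : ∀ i, IsIntegral (C i)) (hd : ∀ i, topologicalKrullDim ↥(C i) = 1)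
    (hconn : _root_.IsConnected (⋃ i, Set.range ⇑(j i)))
    (P Q : Spec (CommRingCat.of k) ⟶ X) (hP : P ≫ p = 𝟙 _) (hQ : Q ≫ p = 𝟙 _)
    (hPC : P (closedPoint k) ∈ ⋃ i, Set.range ⇑(j i))
    (hQC : Q (closedPoint k) ∈ ⋃ i, Set.range ⇑(j i)) :
    AlgEqCyc.IsAlgEquiv p (Function.locallyFinsuppWithin.single (P (closedPoint k)) (1 : ℤ))
      (Function.locallyFinsuppWithin.single (Q (closedPoint k)) (1 : ℤ)) := by
  classical
  haveI := fun i => isProper_of_projective (hpr i)
  haveI : ∀ i, CompactSpace (C i) := fun i => QuasiCompact.compactSpace_of_compactSpace (q i)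
  let pt (i : Fin n) (x : X) : Prop :=
    ∃ t : Spec (CommRingCat.of k) ⟶ C i, t ≫ q i = 𝟙 _ ∧ j i (t (closedPoint k)) = x
  let G : AddSubgroup (AlgebraicCycle X ℤ) := AlgEqCyc.algTriv p
  let δ (x : X) : AlgebraicCycle X ℤ := Function.locallyFinsuppWithin.single x (1 : ℤ)
  have same : ∀ i x y, pt i x → pt i y → δ x - δ y ∈ G := by
    rintro i x y ⟨t₁, h₁, rfl⟩ ⟨t₂, h₂, rfl⟩
    haveI := hj i
    exact isAlgEquiv_of_closedImmersion p (j i) (q i) (hq i) (hs i) (hpr i) (hint i) (hd i) t₁ t₂ h₁ h₂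
  have ofPoint : ∀ i (R : Spec (CommRingCat.of k) ⟶ X), R ≫ p = 𝟙 _ → R (closedPoint k) ∈ Set.range (j i) →
      pt i (R (closedPoint k)) := by
    intro i R hR hRi
    haveI := hj i
    obtain ⟨t, ht, htj⟩ := exists_lift_point p (j i) (q i) (hq i) R hR hRi
    exact ⟨t, ht, by rw [← Scheme.Hom.comp_apply, htj]⟩
  obtain ⟨a, ha⟩ := Set.mem_iUnion.1 hPC
  obtain ⟨b, hb⟩ := Set.mem_iUnion.1 hQC
  let A : Set (Fin n) := {i | ∀ x, pt i x → δ (P (closedPoint k)) - δ x ∈ G}
  suffices hA : b ∈ A from hA _ (ofPoint b Q hQ hb)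
  have haA : a ∈ A := fun x hx => same a _ _ (ofPoint a P hP ha) hx
  by_contra hbA
  let T : Set X := ⋃ i ∈ A, Set.range (j i)
  let T' : Set X := ⋃ i ∈ Aᶜ, Set.range (j i)
  have hTc : IsClosed T := A.toFinite.isClosed_biUnion fun i _ => (hj i).base_closed.isClosed_range
  have hT'c : IsClosed T' := Aᶜ.toFinite.isClosed_biUnion fun i _ => (hj i).base_closed.isClosed_range
  have hcov : (⋃ i, Set.range ⇑(j i)) ⊆ T ∪ T' := by
    refine Set.iUnion_subset fun i => ?_
    by_cases hi : i ∈ A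
    · exact (Set.subset_biUnion_of_mem (u := fun i => Set.range (j i)) hi).trans Set.subset_union_left
    · exact (Set.subset_biUnion_of_mem (u := fun i => Set.range (j i)) hi).trans Set.subset_union_right
  obtain ⟨y, -, hy, hy'⟩ := isPreconnected_closed_iff.1 hconn.isPreconnected T T' hTc hT'c hcov
    ⟨_, hPC, Set.mem_biUnion haA ha⟩ ⟨_, hQC, Set.mem_biUnion (show b ∈ Aᶜ from hbA) hb⟩
  obtain ⟨i, hi, z, rfl⟩ := Set.mem_iUnion₂.1 hy
  obtain ⟨l, hl, hzl⟩ := Set.mem_iUnion₂.1 hy'
  haveI := hint i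
  obtain ⟨c, hc, hcc⟩ := IsClosed.exists_closed_singleton
    (((hj l).base_closed.isClosed_range).preimage (j i).continuous) ⟨z, hzl⟩
  let t := pointOfClosedPoint (q i) c hcc
  have ht : t ≫ q i = 𝟙 _ := pointOfClosedPoint_comp _ _ _
  have htc : t (closedPoint k) = c := pointOfClosedPoint_apply _ _ _ _
  have hx : pt i (j i c) := ⟨t, ht, by rw [htc]⟩
  have hxl : pt l (j i c) := by
    have h := ofPoint l (t ≫ j i) (by rw [Category.assoc, hq, ht]) (by
      rw [Scheme.Hom.comp_apply, htc]; exact hc)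
    rwa [Scheme.Hom.comp_apply, htc] at h
  refine hl fun x hxx => ?_
  simpa using G.add_mem (hi _ hx) (same l _ _ hxl hxx)

end Groth.Agent.AlgEqLib
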