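import Mathlib
import Groth.Prelude.Def_AlgEqCyc

/-!
# Families of points given by graphs of morphisms from curves
-/

set_option autoImplicit false
set_option backward.isDefEq.respectTransparency false
set_option linter.style.haveILetI false
set_option maxHeartbeats 1000000

universe u

open CategoryTheory CategoryTheory.Limits AlgebraicGeometry IsLocalRing

noncomputable section

namespace Groth.Agent.AlgEqLib

variable {P C : Scheme.{u}} (Γ : C ⟶ P) (g : P ⟶ C) (hg : Γ ≫ g = 𝟙 C) [IsIntegral C] [IsClosedImmersion Γ]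

include hg in
/-- A section meets the fibre with multiplicity one. -/
theorem fibreMult_graph (c : C) (h : Γ (genericPoint C) ⤳ Γ c) :
    AlgEqCyc.fibreMult g (Γ c) (Γ (genericPoint C)) h = 1 := by
  classical
  let σ : P.presheaf.stalk (Γ c) →+* C.presheaf.stalk c := (Γ.stalkMap c).hom
  have hker : RingHom.ker (Cyc.specMap (Γ c) (Γ (genericPoint C)) h) = RingHom.ker σ := by
    have hnat : P.presheaf.stalkSpecializes h ≫ P.residue _ ≫ Γ.residueFieldMap (genericPoint C) =
        Γ.stalkMap c ≫ C.presheaf.stalkSpecializes (genericPoint_specializes c) ≫ C.residue _ := by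
      rw [Scheme.residue_residueFieldMap, ← Category.assoc,
        Scheme.Hom.stalkSpecializes_stalkMap Γ _ _ (genericPoint_specializes c), Category.assoc]
    have hinj : Function.Injective
        (C.presheaf.stalkSpecializes (genericPoint_specializes c) ≫ C.residue (genericPoint C)).hom := by
      have h1 : Function.Injective (C.residue (genericPoint C)).hom :=
        RingHom.injective (R := C.functionField) (C.residue (genericPoint C)).hom
      exact h1.comp (IsFractionRing.injective (C.presheaf.stalk c) C.functionField)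
    ext z
    rw [RingHom.mem_ker, RingHom.mem_ker]
    have hz := congrArg (fun φ => φ.hom z) hnat
    simp only [CommRingCat.comp_apply] at hz
    constructor
    · intro h0
      refine hinj ?_
      rw [map_zero]
      simp only [CommRingCat.comp_apply]
      rw [show (Γ.stalkMap c).hom z = σ z from rfl] at hz
      rw [← hz, show (P.residue _).hom ((P.presheaf.stalkSpecializes h).hom z) = 0 from h0, map_zero]
    · intro h0
      refine (Γ.residueFieldMap (genericPoint C)).hom.injective ?_
      rw [map_zero]
      refine hz.trans ?_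
      rw [show (Γ.stalkMap c).hom z = 0 from h0, map_zero, map_zero]
  let gs := (g.stalkMap (Γ c)).hom
  let e : C.presheaf.stalk c →+* C.presheaf.stalk c := RingHom.id _
  have hpt : g (Γ c) = c := by rw [← Scheme.Hom.comp_apply, hg]; rfl
  have hσg : ∀ r, σ (gs r) = (C.presheaf.stalkSpecializes (Inseparable.of_eq hpt.symm).specializes).hom r := by
    intro r
    have h1 : g.stalkMap (Γ c) ≫ Γ.stalkMap c =
        C.presheaf.stalkSpecializes (Inseparable.of_eq hpt.symm).specializes := by
      rw [← Scheme.Hom.stalkMap_comp, Scheme.Hom.stalkMap_congr_hom _ _ hg, Scheme.Hom.stalkMap_id]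
      simp
    exact congrArg (fun φ => φ.hom r) h1
  let J := (maximalIdeal (C.presheaf.stalk (g (Γ c)))).map gs ⊔ RingHom.ker σ
  have hJ : J = maximalIdeal (P.presheaf.stalk (Γ c)) := by
    refine le_antisymm (sup_le (Ideal.map_le_iff_le_comap.2 fun r hr => ?_) (IsLocalRing.le_maximalIdeal ?_)) fun z hz => ?_
    · exact map_nonunit gs r hr
    · exact RingHom.ker_ne_top σ
    · obtain ⟨r, hr⟩ : ∃ r, (C.presheaf.stalkSpecializes (Inseparable.of_eq hpt.symm).specializes).hom r = σ z := by
        haveI : IsIso (C.presheaf.stalkSpecializes (Inseparable.of_eq hpt.symm).specializes) :=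
          ⟨C.presheaf.stalkSpecializes (Inseparable.of_eq hpt).specializes, by simp, by simp⟩
        exact (ConcreteCategory.bijective_of_isIso _).2 _
      have hrm : r ∈ maximalIdeal (C.presheaf.stalk (g (Γ c))) := fun hu => by
        have := hu.map (C.presheaf.stalkSpecializes (Inseparable.of_eq hpt.symm).specializes).hom
        rw [hr] at this
        exact (map_nonunit σ z hz : σ z ∈ maximalIdeal _) this
      refine Submodule.mem_sup.2 ⟨gs r, Ideal.mem_map_of_mem gs hrm, z - gs r, ?_, by ring⟩
      rw [RingHom.mem_ker, map_sub, hσg, hr, sub_self]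
  have key : ∀ z : P.presheaf.stalk (Γ c),
      Ideal.Quotient.mk ((maximalIdeal (C.presheaf.stalk (g (Γ c)))).map
        ((Ideal.Quotient.mk (RingHom.ker (Cyc.specMap (Γ c) (Γ (genericPoint C)) h))).comp gs))
          (Ideal.Quotient.mk _ z) = 0 ↔ z ∈ J := fun z => by
    rw [Ideal.Quotient.eq_zero_iff_mem, ← Ideal.map_map, Ideal.mem_map_iff_of_surjective _ Ideal.Quotient.mk_surjective]
    constructor
    · rintro ⟨w, hw, hwz⟩
      rw [Ideal.Quotient.eq, hker] at hwz
      have : z = w - (w - z) := by ring
      rw [this]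
      exact J.sub_mem (Submodule.mem_sup_left hw) (Submodule.mem_sup_right hwz)
    · intro hz
      obtain ⟨w, hw, v, hv, rfl⟩ := Submodule.mem_sup.1 hz
      exact ⟨w, hw, (Ideal.Quotient.eq).2 (by rw [hker]; simpa using (RingHom.ker σ).neg_mem hv)⟩
  let π : P.presheaf.stalk (Γ c) →ₗ[P.presheaf.stalk (Γ c)]
      (Cyc.LocQuot (Γ c) (Γ (genericPoint C)) h ⧸ (maximalIdeal (C.presheaf.stalk (g (Γ c)))).map
        ((Ideal.Quotient.mk (RingHom.ker (Cyc.specMap (Γ c) (Γ (genericPoint C)) h))).comp gs)) :=
    ((Submodule.mkQ _).restrictScalars (P.presheaf.stalk (Γ c))).comp (Submodule.mkQ _)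
  have hπ : Function.Surjective π := Ideal.Quotient.mk_surjective.comp Ideal.Quotient.mk_surjective
  have hk : LinearMap.ker π = J := by
    ext z
    exact key z
  show (Module.length _ _).toNat = 1
  rw [← (π.quotKerEquivOfSurjective hπ).length_eq, hk, hJ]
  rw [Module.length_eq_one_iff.2 ((isSimpleModule_iff_isCoatom).2 (Ideal.isMaximal_def.1 inferInstance))]
  rfl

omit hg

variable {k : Type u} [Field k] {X : Scheme.{u}} (p : X ⟶ Spec (CommRingCat.of k)) (q : C ⟶ Spec (CommRingCat.of k))
  (φ : C ⟶ X) (hφ : φ ≫ p = q)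

omit Γ g in
/-- The members of the family given by a graph are the points of the morphism. -/
theorem fibreFun_graph [DecidableEq (↥(pullback p q))] [DecidableEq X]
    (hΓ : IsClosedImmersion (pullback.lift φ (𝟙 C) (by rw [hφ, Category.id_comp]) : C ⟶ pullback p q))
    (t : Spec (CommRingCat.of k) ⟶ C) (ht : t ≫ q = 𝟙 _) (x : X) :
    AlgEqCyc.fibreFun p q (Function.locallyFinsuppWithin.single
        ((pullback.lift φ (𝟙 C) (by rw [hφ, Category.id_comp]) : C ⟶ pullback p q) (genericPoint C)) (1 : ℤ)) t ht x =
      Function.locallyFinsuppWithin.single (φ (t (closedPoint k))) (1 : ℤ) x := by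
  classical
  let γ : C ⟶ pullback p q := pullback.lift φ (𝟙 C) (by rw [hφ, Category.id_comp])
  haveI : IsClosedImmersion γ := hΓ
  have hγ : γ ≫ pullback.snd p q = 𝟙 C := pullback.lift_snd _ _ _
  let c := t (closedPoint k)
  have hs : AlgEqCyc.slice p q t ht (φ c) = γ c := by
    have e : t ≫ φ ≫ AlgEqCyc.slice p q t ht = t ≫ γ := by
      apply pullback.hom_ext
      · simp [AlgEqCyc.slice, γ]
      · simp only [AlgEqCyc.slice, γ, Category.assoc, pullback.lift_snd, Category.comp_id]
        rw [reassoc_of% hφ, reassoc_of% ht]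
    exact congrArg (fun f : Spec (CommRingCat.of k) ⟶ pullback p q => f (closedPoint k)) e
  by_cases hx : γ (genericPoint C) ⤳ AlgEqCyc.slice p q t ht x
  · obtain ⟨d, hd⟩ : AlgEqCyc.slice p q t ht x ∈ Set.range γ :=
      hx.mem_closed γ.isClosedEmbedding.isClosed_range ⟨_, rfl⟩
    have hdc : d = c := by
      have h1 := congrArg (pullback.snd p q) hd
      rw [← Scheme.Hom.comp_apply, ← Scheme.Hom.comp_apply, hγ] at h1
      rw [show AlgEqCyc.slice p q t ht ≫ pullback.snd p q = p ≫ t from pullback.lift_snd _ _ _] at h1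
      exact h1.trans (congrArg t (Subsingleton.elim (α := PrimeSpectrum k) _ _))
    subst hdc
    have hxφ : x = φ c := by
      calc x = (AlgEqCyc.slice p q t ht ≫ pullback.fst p q) x := by
            rw [show AlgEqCyc.slice p q t ht ≫ pullback.fst p q = 𝟙 X from pullback.lift_fst _ _ _]; rfl
        _ = (pullback.fst p q) (γ c) := (congrArg (pullback.fst p q) hd).symm
        _ = (γ ≫ pullback.fst p q) c := rfl
        _ = φ c := by rw [show γ ≫ pullback.fst p q = φ from pullback.lift_fst _ _ _]
    subst hxφ
    rw [Function.locallyFinsuppWithin.single_apply, if_pos rfl]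
    unfold AlgEqCyc.fibreFun
    rw [finsum_eq_single _ ⟨γ (genericPoint C), by simp [γ], hx⟩ fun w hw => by
      exfalso
      refine hw (Subtype.ext ?_)
      by_contra hne
      exact w.2.1 (by rw [Function.locallyFinsuppWithin.single_apply, if_neg hne])]
    have h1 : Function.locallyFinsuppWithin.single (γ (genericPoint C)) (1 : ℤ) (γ (genericPoint C)) = 1 := by
      rw [Function.locallyFinsuppWithin.single_apply, if_pos rfl]
    refine (congrArg (· * _) h1).trans ((one_mul _).trans ?_)
    have hgen : ∀ v (hv : γ (genericPoint C) ⤳ v), v = γ c →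
        AlgEqCyc.fibreMult (pullback.snd p q) v (γ (genericPoint C)) hv = 1 := by
      rintro v hv rfl
      exact fibreMult_graph γ (pullback.snd p q) hγ c hv
    exact_mod_cast hgen _ hx hs
  · rw [Function.locallyFinsuppWithin.single_apply, if_neg fun h => hx (by
      rw [h, hs]; exact (genericPoint_specializes c).map γ.continuous)]
    unfold AlgEqCyc.fibreFun
    haveI : IsEmpty {w : ↥(pullback p q) // Function.locallyFinsuppWithin.single (γ (genericPoint C)) (1 : ℤ) w ≠ 0 ∧
        w ⤳ AlgEqCyc.slice p q t ht x} := ⟨fun w => by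
      by_cases hne : w.1 = γ (genericPoint C)
      · exact hx (hne ▸ w.2.2)
      · exact w.2.1 (by rw [Function.locallyFinsuppWithin.single_apply, if_neg hne])⟩
    exact finsum_of_isEmpty _

include hφ in
/-- Two points on the image of a projective curve differ by an elementary algebraically trivial cycle. -/
theorem isElemAlgTriv_of_curve [DecidableEq X] (hs : Smooth q) (hp : Neron.IsProjectiveOver k (Over.mk q))
    (hd : topologicalKrullDim C = 1)
    (hΓ : IsClosedImmersion (pullback.lift φ (𝟙 C) (by rw [hφ, Category.id_comp]) : C ⟶ pullback p q))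
    (t₁ t₂ : Spec (CommRingCat.of k) ⟶ C) (h₁ : t₁ ≫ q = 𝟙 _) (h₂ : t₂ ≫ q = 𝟙 _) :
    AlgEqCyc.IsElemAlgTriv p (Function.locallyFinsuppWithin.single (φ (t₁ (closedPoint k))) (1 : ℤ) -
      Function.locallyFinsuppWithin.single (φ (t₂ (closedPoint k))) (1 : ℤ)) := by
  classical
  refine ⟨C, q, hs, hp, ‹_›, hd, Function.locallyFinsuppWithin.single
      ((pullback.lift φ (𝟙 C) (by rw [hφ, Category.id_comp]) : C ⟶ pullback p q) (genericPoint C)) (1 : ℤ),
    fun w hw => ?_, t₁, t₂, h₁, h₂, fun x => ?_⟩
  · rw [Function.locallyFinsuppWithin.single_apply] at hw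
    split_ifs at hw with hwe
    · subst hwe
      rw [← Scheme.Hom.comp_apply, pullback.lift_snd]
      exact (genericPoint_spec C).def
    · exact absurd rfl hw
  · rw [Function.locallyFinsuppWithin.coe_sub, Pi.sub_apply, fibreFun_graph p q φ hφ hΓ t₁ h₁,
      fibreFun_graph p q φ hφ hΓ t₂ h₂]

end Groth.Agent.AlgEqLib
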