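import Groth.Agent.AlgEqLib.Chain
import Groth.Agent.CurveLib.GlobalFun
import Groth.Agent.NormalSch.Curve
import Groth.Agent.NormalRefLib.Basic
import Groth.Agent.AVHomLib.Functional
import Groth.Agent.ProjOverLib.Affine
import Groth.Agent.S1627

/-!
# Points joined by a proper smooth curve are algebraically equivalent
-/

set_option autoImplicit false
set_option backward.isDefEq.respectTransparency false
set_option linter.style.haveILetI false
set_option maxHeartbeats 1000000

universe u

open CategoryTheory CategoryTheory.Limits AlgebraicGeometry IsLocalRing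

noncomputable section

namespace Groth.Agent.AlgEqLib

variable {k : Type u} [Field k]

/-- A proper integral curve over a field is projective. -/
theorem isProjectiveOver_of_proper_curve {C : Scheme.{u}} [IsIntegral C] (q : C ⟶ Spec (CommRingCat.of k))
    [IsProper q] (hd : topologicalKrullDim C = 1) : Neron.IsProjectiveOver k (Over.mk q) := by
  letI : C.Over (Spec (CommRingCat.of k)) := ⟨q⟩
  haveI : IsSeparated (C ↘ Spec (CommRingCat.of k)) := inferInstanceAs (IsSeparated q)
  haveI : LocallyOfFiniteType (C ↘ Spec (CommRingCat.of k)) := inferInstanceAs (LocallyOfFiniteType q)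
  haveI : QuasiCompact (C ↘ Spec (CommRingCat.of k)) := inferInstanceAs (QuasiCompact q)
  rcases Groth.Agent.S1627.result k C hd with h | ⟨d, c, hc, hcq⟩
  · haveI := h
    haveI : IsFinite q := (IsFinite.iff_isProper_and_isAffineHom).2 ⟨inferInstance, isAffineHom_of_isAffine q⟩
    haveI : IsArtinianRing (CommRingCat.of k) := inferInstanceAs (IsArtinianRing k)
    haveI : IsLocallyArtinian C := IsLocallyArtinian.of_locallyQuasiFinite q
    exfalso
    have h0 : topologicalKrullDim C ≤ 0 := topologicalKrullDim_zero_of_discreteTopology C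
    rw [hd] at h0
    exact absurd h0 (not_le.2 zero_lt_one)
  · obtain ⟨e, he⟩ := ProjOverLib.exists_iso_polyProj d k
    haveI := hc
    refine ⟨d, c ≫ e.inv, inferInstance, ?_⟩
    rw [← he, Category.assoc, Iso.inv_hom_id_assoc]
    exact hcq

variable {X : Scheme.{u}} (p : X ⟶ Spec (CommRingCat.of k))

/-- Two points joined by a morphism from a proper smooth curve are algebraically equivalent. -/
theorem isAlgEquiv_of_properCurve [IsAlgClosed k] [DecidableEq X] [IsProper p] {C : Scheme.{u}} [IsIntegral C]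
    (q : C ⟶ Spec (CommRingCat.of k)) [IsProper q] (hs : Smooth q)
    (hd : ∀ x : C, IsClosed ({x} : Set C) → ringKrullDim (C.presheaf.stalk x) = 1)
    (U : C.Opens) (φ : (U : Scheme.{u}) ⟶ X) (c d : U) (hφ : φ ≫ p = U.ι ≫ q)
    (hc : IsClosed ({c.1} : Set C)) (hd' : IsClosed ({d.1} : Set C)) :
    AlgEqCyc.IsAlgEquiv p (Function.locallyFinsuppWithin.single (φ c) (1 : ℤ))
      (Function.locallyFinsuppWithin.single (φ d) (1 : ℤ)) := by
  letI : C.Over (Spec (CommRingCat.of k)) := ⟨q⟩
  haveI : IsProper (C ↘ Spec (CommRingCat.of k)) := inferInstanceAs (IsProper q)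
  haveI : Smooth (C ↘ Spec (CommRingCat.of k)) := inferInstanceAs (Smooth q)
  haveI : IsLocallyNoetherian C := LocallyOfFiniteType.isLocallyNoetherian q
  have hdim : topologicalKrullDim C = 1 := AVHomLib.dim_of_closed_stalks (K := k) hd
  have hn : Pi1.IsNormalScheme C :=
    NormalRefLib.normal_of_regular fun x => CurveLib.isRegularLocalRing_stalk_of_smooth (k := k) x
  obtain ⟨φ', ⟨hres, hφ'⟩, -⟩ := NormalSch.existsUnique_extension (k := k) hd hn p U
    (U.isOpen.dense ⟨c.1, c.2⟩) φ hφ
  have hval : ∀ e : U, φ' e.1 = φ e := fun e => by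
    rw [← hres]; rfl
  rw [← hval c, ← hval d]
  obtain ⟨t₁, h₁, e₁⟩ : ∃ t : Spec (CommRingCat.of k) ⟶ C, t ≫ q = 𝟙 _ ∧ t (closedPoint k) = c.1 :=
    ⟨pointOfClosedPoint q c.1 hc, pointOfClosedPoint_comp _ _ _, pointOfClosedPoint_apply _ _ _ _⟩
  obtain ⟨t₂, h₂, e₂⟩ : ∃ t : Spec (CommRingCat.of k) ⟶ C, t ≫ q = 𝟙 _ ∧ t (closedPoint k) = d.1 :=
    ⟨pointOfClosedPoint q d.1 hd', pointOfClosedPoint_comp _ _ _, pointOfClosedPoint_apply _ _ _ _⟩
  rw [← e₁, ← e₂]
  have hq : φ' ≫ p = q := hφ'
  refine AddSubgroup.subset_closure (isElemAlgTriv_of_curve p q φ' hq hs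
    (isProjectiveOver_of_proper_curve q hdim) hdim ?_ t₁ t₂ h₁ h₂)
  refine @IsClosedImmersion.of_comp _ _ _ _ (pullback.snd p q) ?_ inferInstance
  rw [pullback.lift_snd]
  infer_instance

end Groth.Agent.AlgEqLib
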