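import Groth.Agent.AlgEqLib.Chain
import Groth.Agent.WeilCohLib.Geom
import Groth.Prelude.Def_ChowOps

/-!
# Zero-cycles of degree zero
-/

set_option autoImplicit false
set_option backward.isDefEq.respectTransparency false
set_option linter.style.haveILetI false
set_option maxHeartbeats 1000000

universe u

open CategoryTheory CategoryTheory.Limits AlgebraicGeometry IsLocalRing

noncomputable section

namespace Groth.Agent.AlgEqLib

variable {k : Type u} [Field k] [IsAlgClosed k] {X : Scheme.{u}} (p : X ⟶ Spec (CommRingCat.of k))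

/-- A zero-cycle of degree zero is algebraically trivial as soon as closed points are algebraically
equivalent to one another. -/
theorem isAlgEquivZero_of_deg [IsProper p] [DecidableEq X]
    (hpts : ∀ a b : X, IsClosed ({a} : Set X) → IsClosed ({b} : Set X) →
      AlgEqCyc.IsAlgEquiv p (Function.locallyFinsuppWithin.single a (1 : ℤ))
        (Function.locallyFinsuppWithin.single b (1 : ℤ)))
    (δ : X → ℤ) (hδ : Cyc.DeltaCompat p δ (fun _ => 0)) (α : AlgebraicCycle X ℤ)
    (hα : α ∈ Cyc.Zk X δ 0) (hdeg : ChowOps.deg p δ α = 0) : AlgEqCyc.IsAlgEquivZero p α := by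
  haveI : CompactSpace X := QuasiCompact.compactSpace_of_compactSpace p
  have hfin : (Function.support ⇑α).Finite := by
    simpa using α.locallyFiniteSupport.finite_inter_support_of_isCompact isCompact_univ
  let s := hfin.toFinset
  have hmem : ∀ x, x ∈ s ↔ α x ≠ 0 := fun x => by simp [s]
  have h0 : ∀ x ∈ s, δ x = 0 := fun x hx => by
    by_contra h
    exact (hmem x).1 hx (hα x h)
  have hcl : ∀ x ∈ s, IsClosed ({x} : Set X) := fun x hx =>
    (WeilCohLib.isClosed_iff_pdim_eq_zero p x).2 (by
      have := WeilCohLib.delta_eq_pdim p δ hδ x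
      have := h0 x hx
      omega)
  have hsum : ∑ x ∈ s, α x = 0 := by
    rw [← hdeg]
    change _ = ∑ᶠ x ∈ p ⁻¹' {closedPoint k}, α x * (AlgebraicCycle.mapCoeff p δ (fun _ => (0 : ℤ)) x : ℤ)
    rw [finsum_mem_eq_sum_of_inter_support_eq _ (t := s) ?_]
    · refine Finset.sum_congr rfl fun x hx => ?_
      rw [AlgebraicCycle.mapCoeff, if_pos (h0 x hx), WeilCohLib.residueDegree_closed_eq_one p x (hcl x hx)]
      simp
    · ext x
      constructor
      · rintro ⟨-, h2⟩
        exact ⟨by simpa [s] using left_ne_zero_of_mul h2, h2⟩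
      · rintro ⟨-, h2⟩
        exact ⟨Subsingleton.elim (α := PrimeSpectrum k) _ _, h2⟩
  rcases s.eq_empty_or_nonempty with hs | ⟨x₀, hx₀⟩
  · have : α = 0 := by
      ext x
      by_contra h
      exact Finset.notMem_empty x (hs ▸ (hmem x).2 h)
    rw [this]
    exact (AlgEqCyc.algTriv p).zero_mem
  let e (x : X) : AlgebraicCycle X ℤ := Function.locallyFinsuppWithin.single x (1 : ℤ)
  have hα' : α = ∑ x ∈ s, α x • (e x - e x₀) := by
    rw [Finset.sum_congr rfl fun x _ => zsmul_sub (e x) (e x₀) (α x), Finset.sum_sub_distrib, ← Finset.sum_smul,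
      hsum, zero_smul, sub_zero]
    ext y
    rw [Function.locallyFinsuppWithin.coe_sum, Finset.sum_apply]
    simp only [Function.locallyFinsuppWithin.coe_zsmul, Pi.smul_apply, e, Function.locallyFinsuppWithin.single_apply,
      smul_eq_mul, mul_ite, mul_one, mul_zero]
    rw [Finset.sum_ite_eq s y fun x => α x]
    split_ifs with hy
    · rfl
    · exact not_not.1 fun h => hy ((hmem y).2 h)
  show α ∈ AlgEqCyc.algTriv p
  rw [hα']
  exact sum_mem fun x hx => zsmul_mem (hpts x x₀ (hcl x hx) (hcl x₀ hx₀)) _

end Groth.Agent.AlgEqLib
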